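import Cfsg.Agent.H756.PU.Stmts

/-!
# S5258 [PU-REAL-a]: the group `SUJ K` (helper567)

`SUJ K` is the special unitary group of the form with the antidiagonal Gram matrix `J` on `K⁵`, basis
`e₁, e₂, d, f₂, f₁`; `emb : UG K →* SUJ K` is the group of the upper unitriangular matrices in it.
-/

set_option autoImplicit false

namespace Cfsg.Agent.H567.PU

open Matrix Cfsg.Agent.H756.PU

universe u

variable (K : Type u) [Field K] [StarRing K]

/-- the Gram matrix -/
def J : Matrix (Fin 5) (Fin 5) K :=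
  !![0, 0, 0, 0, 1; 0, 0, 0, 1, 0; 0, 0, 1, 0, 0; 0, 1, 0, 0, 0; 1, 0, 0, 0, 0]

theorem J_mul_J : J K * J K = 1 := by
  ext i j
  fin_cases i <;> fin_cases j <;> simp [J, Matrix.mul_apply, Fin.sum_univ_five]

variable {K}

/-- the condition -/
def FJ (M : Matrix (Fin 5) (Fin 5) K) : Prop := M * J K * Mᴴ = J K

theorem FJ.mul {M N : Matrix (Fin 5) (Fin 5) K} (hM : FJ M) (hN : FJ N) : FJ (M * N) := by
  unfold FJ at *
  rw [Matrix.conjTranspose_mul]
  calc M * N * J K * (Nᴴ * Mᴴ) = M * (N * J K * Nᴴ) * Mᴴ := by simp only [Matrix.mul_assoc]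
    _ = J K := by rw [hN, hM]

theorem FJ.one : FJ (1 : Matrix (Fin 5) (Fin 5) K) := by
  unfold FJ
  rw [Matrix.conjTranspose_one, Matrix.one_mul, Matrix.mul_one]

/-- the inverse -/
theorem FJ.inv_left {M : Matrix (Fin 5) (Fin 5) K} (hM : FJ M) : J K * Mᴴ * J K * M = 1 := by
  have h1 : M * (J K * Mᴴ * J K) = 1 := by
    calc M * (J K * Mᴴ * J K) = M * J K * Mᴴ * J K := by simp only [Matrix.mul_assoc]
      _ = 1 := by rw [hM, J_mul_J]
  exact mul_eq_one_comm.1 h1

theorem FJ.col {M : Matrix (Fin 5) (Fin 5) K} (hM : FJ M) : Mᴴ * J K * M = J K := by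
  have h1 := hM.inv_left
  have h2 : J K * (J K * Mᴴ * J K * M) = J K := by rw [h1, Matrix.mul_one]
  calc Mᴴ * J K * M = (J K * J K) * Mᴴ * J K * M := by rw [J_mul_J, Matrix.one_mul]
    _ = J K * (J K * Mᴴ * J K * M) := by simp only [Matrix.mul_assoc]
    _ = J K := h2

/-- the form on the rows -/
theorem FJ.row_rel {M : Matrix (Fin 5) (Fin 5) K} (hM : FJ M) (i j : Fin 5) :
    M i 0 * star (M j 4) + M i 1 * star (M j 3) + M i 2 * star (M j 2) + M i 3 * star (M j 1) + M i 4 * star (M j 0) =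
      J K i j := by
  have h1 := congrFun (congrFun hM i) j
  simp only [Matrix.mul_apply, Fin.sum_univ_five, Matrix.conjTranspose_apply] at h1
  rw [← h1]
  simp [J]
  ring

/-- the form on the columns -/
theorem FJ.col_rel {M : Matrix (Fin 5) (Fin 5) K} (hM : FJ M) (i j : Fin 5) :
    star (M 0 i) * M 4 j + star (M 1 i) * M 3 j + star (M 2 i) * M 2 j + star (M 3 i) * M 1 j + star (M 4 i) * M 0 j =
      J K i j := by
  have h1 := congrFun (congrFun hM.col i) j
  simp only [Matrix.mul_apply, Fin.sum_univ_five, Matrix.conjTranspose_apply] at h1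
  rw [← h1]
  simp [J]
  ring

variable (K) in
/-- the special unitary group -/
def SUJ : Subgroup (Matrix.SpecialLinearGroup (Fin 5) K) where
  carrier := {g | FJ (g : Matrix (Fin 5) (Fin 5) K)}
  mul_mem' := by
    intro a b ha hb
    show FJ ((a * b : Matrix.SpecialLinearGroup (Fin 5) K) : Matrix (Fin 5) (Fin 5) K)
    rw [Matrix.SpecialLinearGroup.coe_mul]
    exact FJ.mul ha hb
  one_mem' := by
    show FJ ((1 : Matrix.SpecialLinearGroup (Fin 5) K) : Matrix (Fin 5) (Fin 5) K)
    rw [Matrix.SpecialLinearGroup.coe_one]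
    exact FJ.one
  inv_mem' := by
    intro g hg
    have hg' : FJ (g : Matrix (Fin 5) (Fin 5) K) := hg
    have h1 : ((g⁻¹ : Matrix.SpecialLinearGroup (Fin 5) K) : Matrix (Fin 5) (Fin 5) K) * g = 1 := by
      rw [← Matrix.SpecialLinearGroup.coe_mul, inv_mul_cancel, Matrix.SpecialLinearGroup.coe_one]
    show FJ ((g⁻¹ : Matrix.SpecialLinearGroup (Fin 5) K) : Matrix (Fin 5) (Fin 5) K)
    generalize ((g⁻¹ : Matrix.SpecialLinearGroup (Fin 5) K) : Matrix (Fin 5) (Fin 5) K) = N at h1 ⊢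
    generalize (g : Matrix (Fin 5) (Fin 5) K) = M at h1 hg'
    have h2 : Mᴴ * Nᴴ = 1 := by rw [← Matrix.conjTranspose_mul, h1, Matrix.conjTranspose_one]
    unfold FJ at *
    calc N * J K * Nᴴ = N * (M * J K * Mᴴ) * Nᴴ := by rw [hg']
      _ = (N * M) * J K * (Mᴴ * Nᴴ) := by simp only [Matrix.mul_assoc]
      _ = J K := by rw [h1, h2, Matrix.one_mul, Matrix.mul_one]

/-- the matrix of an element of `UG K` -/
def mt (x : UG K) : Matrix (Fin 5) (Fin 5) K :=
  !![1, x.r, x.u1, x.b, x.a - x.b * star x.r;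
     0, 1, x.u2, x.c, x.d - x.c * star x.r;
     0, 0, 1, - star x.u2, - (star x.u1 - star x.u2 * star x.r);
     0, 0, 0, 1, - star x.r;
     0, 0, 0, 0, 1]

theorem mt_mul (x y : UG K) : mt (x * y) = mt x * mt y := by
  have h1 := y.hc
  ext i j
  fin_cases i <;> fin_cases j <;>
    simp [mt, Matrix.mul_apply, Fin.sum_univ_five, UG.mul_a, UG.mul_b, UG.d]
  all_goals try ring1
  linear_combination (- star x.r) * h1

theorem mt_form (x : UG K) : FJ (mt x) := by
  have h1 := x.ha
  have h2 := x.hc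
  unfold FJ
  ext i j
  fin_cases i <;> fin_cases j <;>
    simp [mt, J, Matrix.mul_apply, Fin.sum_univ_five, UG.d]
  all_goals try ring1
  all_goals first | linear_combination h1 | linear_combination h2

end Cfsg.Agent.H567.PU
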