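import Cfsg.Agent.H567.PU.Suj

/-!
# S5258 [PU-REAL-a]: `emb : UG K →* SUJ K` (helper567)
-/

set_option autoImplicit false

namespace Cfsg.Agent.H567.PU

open Matrix Cfsg.Agent.H756.PU

universe u

variable {K : Type u} [Field K] [StarRing K]

theorem mt_tri (x : UG K) : (mt x).BlockTriangular id := by
  intro i j h
  fin_cases i <;> fin_cases j <;> first | rfl | (exact absurd h (by decide))

theorem mt_det (x : UG K) : (mt x).det = 1 := by
  rw [Matrix.det_of_upperTriangular (mt_tri x)]
  simp [mt, Fin.prod_univ_five]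

theorem mt_one : mt (1 : UG K) = 1 := by
  ext i j
  fin_cases i <;> fin_cases j <;> simp [mt, UG.d]

/-- the embedding of `UG K` -/
def emb : UG K →* SUJ K where
  toFun x := ⟨⟨mt x, mt_det x⟩, mt_form x⟩
  map_one' := Subtype.ext (Subtype.ext mt_one)
  map_mul' x y := Subtype.ext (Subtype.ext (mt_mul x y))

/-- the matrix of an element of `SUJ K` -/
def mx (g : SUJ K) : Matrix (Fin 5) (Fin 5) K := ((g : Matrix.SpecialLinearGroup (Fin 5) K) : Matrix (Fin 5) (Fin 5) K)

theorem mx_emb (x : UG K) : mx (emb x) = mt x := rfl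
theorem mx_mul (g h : SUJ K) : mx (g * h) = mx g * mx h := rfl
theorem mx_one : mx (1 : SUJ K) = 1 := rfl
theorem mx_injective : Function.Injective (mx : SUJ K → _) := fun _ _ h => Subtype.ext (Subtype.ext h)
theorem mx_form (g : SUJ K) : FJ (mx g) := g.2
theorem mx_det (g : SUJ K) : (mx g).det = 1 := g.1.2

theorem mt_injective : Function.Injective (mt : UG K → _) := by
  intro x y h
  have e : ∀ i j, mt x i j = mt y i j := fun i j => by rw [h]
  have h1 : x.r = y.r := e 0 1
  have h2 : x.u1 = y.u1 := e 0 2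
  have h3 : x.u2 = y.u2 := e 1 2
  have h4 : x.b = y.b := e 0 3
  have h5 : x.c = y.c := e 1 3
  have h6 : x.a - x.b * star x.r = y.a - y.b * star y.r := e 0 4
  rw [h4, h1] at h6
  ext
  · exact h1
  · exact h2
  · exact h3
  · exact sub_left_injective h6
  · exact h4
  · exact h5

theorem emb_injective : Function.Injective (emb : UG K →* SUJ K) := fun x y h =>
  mt_injective (congrArg mx h)

/-- the upper unitriangular matrices of the unitary group are the matrices of `UG K` -/
theorem exists_mt {M : Matrix (Fin 5) (Fin 5) K} (hM : FJ M) (h0 : ∀ i j, j < i → M i j = 0) (h1 : ∀ i, M i i = 1) :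
    ∃ x : UG K, mt x = M := by
  have z10 : M 1 0 = 0 := h0 _ _ (by decide)
  have z20 : M 2 0 = 0 := h0 _ _ (by decide)
  have z21 : M 2 1 = 0 := h0 _ _ (by decide)
  have z30 : M 3 0 = 0 := h0 _ _ (by decide)
  have z31 : M 3 1 = 0 := h0 _ _ (by decide)
  have z32 : M 3 2 = 0 := h0 _ _ (by decide)
  have z40 : M 4 0 = 0 := h0 _ _ (by decide)
  have z41 : M 4 1 = 0 := h0 _ _ (by decide)
  have z42 : M 4 2 = 0 := h0 _ _ (by decide)
  have z43 : M 4 3 = 0 := h0 _ _ (by decide)
  have r03 := hM.row_rel 0 3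
  have r12 := hM.row_rel 1 2
  have r02 := hM.row_rel 0 2
  have r11 := hM.row_rel 1 1
  have r01 := hM.row_rel 0 1
  have r00 := hM.row_rel 0 0
  have j03 : J K 0 3 = 0 := rfl
  have j12 : J K 1 2 = 0 := rfl
  have j02 : J K 0 2 = 0 := rfl
  have j11 : J K 1 1 = 0 := rfl
  have j01 : J K 0 1 = 0 := rfl
  have j00 : J K 0 0 = 0 := rfl
  rw [j03, z30, z31, z32, h1 0, h1 3, star_zero, star_one] at r03
  rw [j12, z10, z20, z21, h1 1, h1 2, star_zero, star_one] at r12
  rw [j02, z20, z21, h1 0, h1 2, star_zero, star_one] at r02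
  rw [j11, z10, h1 1, star_zero, star_one] at r11
  rw [j01, z10, h1 0, h1 1, star_zero, star_one] at r01
  rw [j00, h1 0, star_one] at r00
  have m34 : M 3 4 = - star (M 0 1) := by
    have h := congrArg star r03
    simp only [star_add, star_mul', star_star, star_zero, star_one] at h
    linear_combination h
  have m23 : M 2 3 = - star (M 1 2) := by
    have h := congrArg star r12
    simp only [star_add, star_mul', star_star, star_zero, star_one] at h
    linear_combination h
  have m24 : M 2 4 = - (star (M 0 2) - star (M 1 2) * star (M 0 1)) := by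
    have h := congrArg star r02
    simp only [star_add, star_mul', star_star, star_zero, star_one] at h
    rw [m23] at h
    linear_combination h
  have m14 : M 1 4 = (- star (M 0 3) - M 1 2 * star (M 0 2)) - M 1 3 * star (M 0 1) := by
    have h := congrArg star r01
    simp only [star_add, star_mul', star_star, star_zero, star_one] at h
    linear_combination h
  refine ⟨⟨M 0 1, M 0 2, M 1 2, M 0 4 + M 0 3 * star (M 0 1), M 0 3, M 1 3, ?_, ?_⟩, ?_⟩
  · simp only [star_add, star_mul', star_star]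
    linear_combination r00
  · linear_combination r11
  · ext i j
    fin_cases i <;> fin_cases j
    · exact (h1 0).symm
    · rfl
    · rfl
    · rfl
    · show M 0 4 + M 0 3 * star (M 0 1) - M 0 3 * star (M 0 1) = M 0 4
      ring
    · exact z10.symm
    · exact (h1 1).symm
    · rfl
    · rfl
    · exact m14.symm
    · exact z20.symm
    · exact z21.symm
    · exact (h1 2).symm
    · exact m23.symm
    · exact m24.symm
    · exact z30.symm
    · exact z31.symm
    · exact z32.symm
    · exact (h1 3).symm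
    · exact m34.symm
    · exact z40.symm
    · exact z41.symm
    · exact z42.symm
    · exact z43.symm
    · exact (h1 4).symm

theorem mem_range_emb {g : SUJ K} (h0 : ∀ i j, j < i → mx g i j = 0) (h1 : ∀ i, mx g i i = 1) :
    ∃ x : UG K, emb x = g := by
  obtain ⟨x, hx⟩ := exists_mt (mx_form g) h0 h1
  exact ⟨x, mx_injective (by rw [mx_emb, hx])⟩

/-! ### the torus and the field automorphisms -/

/-- conjugation with the diagonal matrix `v` after the field automorphism `τ` -/
def cjm (v : Fin 5 → K) (τ : K ≃+* K) (M : Matrix (Fin 5) (Fin 5) K) : Matrix (Fin 5) (Fin 5) K :=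
  fun i j => v i * τ (M i j) * (v j)⁻¹

/-- `v` is a diagonal matrix in the general unitary group -/
def TV (v : Fin 5 → K) : Prop := v 0 * star (v 4) = 1 ∧ v 1 * star (v 3) = 1 ∧ v 2 * star (v 2) = 1

theorem TV.rev {v : Fin 5 → K} (h : TV v) (i : Fin 5) : v i * star (v (Fin.rev i)) = 1 := by
  obtain ⟨h1, h2, h3⟩ := h
  fin_cases i
  · exact h1
  · exact h2
  · exact h3
  · have h := congrArg star h2
    rw [star_mul', star_star, star_one, mul_comm] at h
    exact h
  · have h := congrArg star h1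
    rw [star_mul', star_star, star_one, mul_comm] at h
    exact h

theorem TV.ne {v : Fin 5 → K} (h : TV v) (i : Fin 5) : v i ≠ 0 := by
  intro h0
  have h1 := h.rev i
  rw [h0, zero_mul] at h1
  exact zero_ne_one h1

theorem cjm_eq (v : Fin 5 → K) (τ : K ≃+* K) (M : Matrix (Fin 5) (Fin 5) K) :
    cjm v τ M = Matrix.diagonal v * M.map τ * Matrix.diagonal (fun i => (v i)⁻¹) := by
  ext i j
  rw [Matrix.mul_diagonal, Matrix.diagonal_mul]
  rfl

theorem cjm_mul {v : Fin 5 → K} (hv : ∀ i, v i ≠ 0) (τ : K ≃+* K) (M N : Matrix (Fin 5) (Fin 5) K) :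
    cjm v τ (M * N) = cjm v τ M * cjm v τ N := by
  ext i j
  simp only [cjm, Matrix.mul_apply, map_sum, map_mul, Finset.mul_sum, Finset.sum_mul]
  refine Finset.sum_congr rfl fun k _ => ?_
  have := hv k
  field_simp

theorem cjm_one {v : Fin 5 → K} (hv : ∀ i, v i ≠ 0) (τ : K ≃+* K) : cjm v τ 1 = 1 := by
  ext i j
  unfold cjm
  by_cases h : i = j
  · subst h
    rw [Matrix.one_apply_eq, map_one, mul_one, mul_inv_cancel₀ (hv i)]
  · rw [Matrix.one_apply_ne h, map_zero, mul_zero, zero_mul]

theorem cjm_det {v : Fin 5 → K} (hv : ∀ i, v i ≠ 0) (τ : K ≃+* K) {M : Matrix (Fin 5) (Fin 5) K} (hM : M.det = 1) :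
    (cjm v τ M).det = 1 := by
  have h1 : (M.map τ).det = 1 := by
    have h2 := (RingHom.map_det (τ : K →+* K) M).symm
    rw [hM, map_one] at h2
    exact h2
  rw [cjm_eq, Matrix.det_mul, Matrix.det_mul, Matrix.det_diagonal, Matrix.det_diagonal, h1, mul_one,
    ← Finset.prod_mul_distrib]
  exact Finset.prod_eq_one fun i _ => mul_inv_cancel₀ (hv i)

theorem cjm_form {v : Fin 5 → K} (hv : TV v) {τ : K ≃+* K} (hτ : ∀ x, τ (star x) = star (τ x))
    {M : Matrix (Fin 5) (Fin 5) K} (hM : FJ M) : FJ (cjm v τ M) := by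
  have h1 : (M.map τ) * J K * (M.map τ)ᴴ = J K := by
    have h2 : (M * J K * Mᴴ).map τ = (J K).map τ := by rw [hM]
    have h3 : (J K).map τ = J K := by
      ext i j
      fin_cases i <;> fin_cases j <;> simp [J]
    have h4 : (Mᴴ).map τ = (M.map τ)ᴴ := by
      ext i j
      exact hτ _
    rw [Matrix.map_mul, Matrix.map_mul, h3, h4] at h2
    exact h2
  have h5 : Matrix.diagonal v * J K * (Matrix.diagonal v)ᴴ = J K := by
    have e := hv.rev
    ext i j
    rw [Matrix.diagonal_conjTranspose, Matrix.mul_diagonal, Matrix.diagonal_mul]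
    by_cases h : j = Fin.rev i
    · subst h
      have h6 := e i
      calc v i * J K i (Fin.rev i) * star (v (Fin.rev i)) = (v i * star (v (Fin.rev i))) * J K i (Fin.rev i) := by ring
        _ = J K i (Fin.rev i) := by rw [h6, one_mul]
    · have h6 : J K i j = 0 := by
        revert h
        fin_cases i <;> fin_cases j <;> intro h <;> first | rfl | exact absurd rfl h
      rw [h6, mul_zero, zero_mul]
  have h6 : Matrix.diagonal (fun i => (v i)⁻¹) * J K * (Matrix.diagonal (fun i => (v i)⁻¹))ᴴ = J K := by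
    have e := hv.rev
    ext i j
    rw [Matrix.diagonal_conjTranspose, Matrix.mul_diagonal, Matrix.diagonal_mul]
    by_cases h : j = Fin.rev i
    · subst h
      have h6 := e i
      show (v i)⁻¹ * J K i (Fin.rev i) * star (v (Fin.rev i))⁻¹ = J K i (Fin.rev i)
      calc (v i)⁻¹ * J K i (Fin.rev i) * star (v (Fin.rev i))⁻¹
          = (v i)⁻¹ * star (v (Fin.rev i))⁻¹ * J K i (Fin.rev i) := by ring
        _ = (v i * star (v (Fin.rev i)))⁻¹ * J K i (Fin.rev i) := by rw [star_inv₀, mul_inv]
        _ = J K i (Fin.rev i) := by rw [h6, inv_one, one_mul]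
    · have h6 : J K i j = 0 := by
        revert h
        fin_cases i <;> fin_cases j <;> intro h <;> first | rfl | exact absurd rfl h
      rw [h6, mul_zero, zero_mul]
  rw [cjm_eq]
  exact FJ.mul (FJ.mul h5 h1) h6

theorem cjm_cjm {v w : Fin 5 → K} (τ σ : K ≃+* K) (M : Matrix (Fin 5) (Fin 5) K) :
    cjm v τ (cjm w σ M) = cjm (fun i => v i * τ (w i)) (σ.trans τ) M := by
  ext i j
  show v i * τ (w i * σ (M i j) * (w j)⁻¹) * (v j)⁻¹ = v i * τ (w i) * τ (σ (M i j)) * (v j * τ (w j))⁻¹
  rw [map_mul, map_mul, map_inv₀, mul_inv]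
  ring

/-- the automorphism of `SUJ K` -/
def autJ (v : Fin 5 → K) (hv : TV v) (τ : K ≃+* K) (hτ : ∀ x, τ (star x) = star (τ x)) : SUJ K →* SUJ K where
  toFun g := ⟨⟨cjm v τ (mx g), cjm_det hv.ne τ (mx_det g)⟩, cjm_form hv hτ (mx_form g)⟩
  map_one' := Subtype.ext (Subtype.ext (by
    show cjm v τ (mx 1) = 1
    rw [mx_one, cjm_one hv.ne]))
  map_mul' g h := Subtype.ext (Subtype.ext (by
    show cjm v τ (mx (g * h)) = cjm v τ (mx g) * cjm v τ (mx h)
    rw [mx_mul, cjm_mul hv.ne]))

theorem mx_autJ (v : Fin 5 → K) (hv : TV v) (τ : K ≃+* K) (hτ : ∀ x, τ (star x) = star (τ x)) (g : SUJ K) :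
    mx (autJ v hv τ hτ g) = cjm v τ (mx g) := rfl

/-- the action on `UG K` -/
theorem cjm_mt {v : Fin 5 → K} (hv : TV v) {τ : K ≃+* K} (hτ : ∀ x, τ (star x) = star (τ x)) {α : MulAut (UG K)}
    (hα : IsTor α (v 0 / v 2) (v 1 / v 2) τ) (x : UG K) : cjm v τ (mt x) = mt (α x) := by
  have n0 := hv.ne 0
  have n1 := hv.ne 1
  have n2 := hv.ne 2
  have n3 := hv.ne 3
  have n4 := hv.ne 4
  have s0 : star (v 0) ≠ 0 := star_ne_zero.2 n0
  have s1 : star (v 1) ≠ 0 := star_ne_zero.2 n1
  have s2 : star (v 2) ≠ 0 := star_ne_zero.2 n2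
  have e3 : (v 3)⁻¹ = star (v 1) := by
    have h := hv.rev 3
    exact inv_eq_of_mul_eq_one_right h
  have e4 : (v 4)⁻¹ = star (v 0) := by
    have h := hv.rev 4
    exact inv_eq_of_mul_eq_one_right h
  have e3' : v 3 = (star (v 1))⁻¹ := by rw [← e3, inv_inv]
  have e4' : v 4 = (star (v 0))⁻¹ := by rw [← e4, inv_inv]
  have e2 : star (v 2) = (v 2)⁻¹ := by
    have h := hv.rev 2
    exact eq_inv_of_mul_eq_one_right h
  have e2' : star (v 2) * v 2 = 1 := by
    rw [mul_comm]
    exact hv.2.2
  have i0 := hα.r x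
  have i1 := hα.u1 x
  have i2 := hα.u2 x
  have i3 := hα.a x
  have i4 := hα.b x
  have i5 := hα.c x
  ext i j
  unfold cjm
  fin_cases i <;> fin_cases j <;>
    simp [mt, UG.d, i0, i1, i2, i3, i4, i5, e3, e4, hτ, n0, n1, n2, star_div₀]
  all_goals try simp only [e3', e4', e2]
  all_goals field_simp
  all_goals try ring1

end Cfsg.Agent.H567.PU
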