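import Cfsg.Agent.H567.PU.SujB

/-!
# S5258 [PU-REAL-a]: torus, Weyl elements, the normalizer of `UG K` in `SUJ K` (helper567)
-/

set_option autoImplicit false

namespace Cfsg.Agent.H567.PU

open Matrix Cfsg.Agent.H756.PU

universe u

variable {K : Type u} [Field K] [StarRing K]

/-! ### the torus -/

/-- the diagonal -/
def tv (s t : Kˣ) : Fin 5 → K :=
  ![s, (s : K)⁻¹ * t, star (t : K) / t, star (s : K) / star (t : K), (star (s : K))⁻¹]

theorem tv_TV (s t : Kˣ) : TV (tv s t) := by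
  have h1 : (s : K) ≠ 0 := s.ne_zero
  have h2 : (t : K) ≠ 0 := t.ne_zero
  have h3 : star (s : K) ≠ 0 := star_ne_zero.2 h1
  have h4 : star (t : K) ≠ 0 := star_ne_zero.2 h2
  refine ⟨?_, ?_, ?_⟩
  · show (s : K) * star ((star (s : K))⁻¹) = 1
    rw [star_inv₀, star_star, mul_inv_cancel₀ h1]
  · show (s : K)⁻¹ * t * star (star (s : K) / star (t : K)) = 1
    rw [star_div₀, star_star, star_star]
    field_simp
  · show star (t : K) / t * star (star (t : K) / t) = 1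
    rw [star_div₀, star_star]
    field_simp

theorem FJ_diagonal {v : Fin 5 → K} (hv : TV v) : FJ (Matrix.diagonal v) := by
  unfold FJ
  have e := hv.rev
  ext i j
  rw [Matrix.diagonal_conjTranspose, Matrix.mul_diagonal, Matrix.diagonal_mul]
  by_cases h : j = Fin.rev i
  · subst h
    have h6 := e i
    calc v i * J K i (Fin.rev i) * star (v (Fin.rev i)) = (v i * star (v (Fin.rev i))) * J K i (Fin.rev i) := by ring
      _ = J K i (Fin.rev i) := by rw [h6, one_mul]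
  · have h6 : J K i j = 0 := by
      revert h
      fin_cases i <;> fin_cases j <;> intro h <;> first | rfl | exact absurd rfl h
    rw [h6, mul_zero, zero_mul]

theorem tv_det (s t : Kˣ) : (Matrix.diagonal (tv s t)).det = 1 := by
  have h1 : (s : K) ≠ 0 := s.ne_zero
  have h2 : (t : K) ≠ 0 := t.ne_zero
  have h3 : star (s : K) ≠ 0 := star_ne_zero.2 h1
  have h4 : star (t : K) ≠ 0 := star_ne_zero.2 h2
  rw [Matrix.det_diagonal, Fin.prod_univ_five]
  show (s : K) * ((s : K)⁻¹ * t) * (star (t : K) / t) * (star (s : K) / star (t : K)) * (star (s : K))⁻¹ = 1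
  field_simp

/-- the torus -/
def tor (s t : Kˣ) : SUJ K := ⟨⟨Matrix.diagonal (tv s t), tv_det s t⟩, FJ_diagonal (tv_TV s t)⟩

theorem mx_tor (s t : Kˣ) : mx (tor s t) = Matrix.diagonal (tv s t) := rfl

theorem tor_mul (s t s' t' : Kˣ) : tor s t * tor s' t' = tor (s * s') (t * t') := by
  apply mx_injective
  rw [mx_mul, mx_tor, mx_tor, mx_tor, Matrix.diagonal_mul_diagonal]
  congr 1
  funext i
  have h1 : (s : K) ≠ 0 := s.ne_zero
  have h2 : (t : K) ≠ 0 := t.ne_zero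
  have h1' : (s' : K) ≠ 0 := s'.ne_zero
  have h2' : (t' : K) ≠ 0 := t'.ne_zero
  fin_cases i
  · rfl
  · show (s : K)⁻¹ * t * ((s' : K)⁻¹ * t') = ((s * s' : Kˣ) : K)⁻¹ * ((t * t' : Kˣ) : K)
    rw [Units.val_mul, Units.val_mul, mul_inv]
    ring
  · show star (t : K) / t * (star (t' : K) / t') = star ((t * t' : Kˣ) : K) / ((t * t' : Kˣ) : K)
    rw [Units.val_mul, star_mul', mul_div_mul_comm]
  · show star (s : K) / star (t : K) * (star (s' : K) / star (t' : K)) =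
      star ((s * s' : Kˣ) : K) / star ((t * t' : Kˣ) : K)
    rw [Units.val_mul, Units.val_mul, star_mul', star_mul', mul_div_mul_comm]
  · show (star (s : K))⁻¹ * (star (s' : K))⁻¹ = (star ((s * s' : Kˣ) : K))⁻¹
    rw [Units.val_mul, star_mul', mul_inv]

theorem tor_one : tor (1 : Kˣ) 1 = 1 := by
  apply mx_injective
  rw [mx_tor, mx_one, ← Matrix.diagonal_one]
  congr 1
  funext i
  fin_cases i <;> simp [tv]

theorem tor_inv (s t : Kˣ) : (tor s t)⁻¹ = tor s⁻¹ t⁻¹ := by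
  rw [inv_eq_iff_mul_eq_one, tor_mul, mul_inv_cancel, mul_inv_cancel, tor_one]

theorem tor_pow (s t : Kˣ) (k : ℕ) : tor s t ^ k = tor (s ^ k) (t ^ k) := by
  induction k with
  | zero => rw [pow_zero, pow_zero, pow_zero, tor_one]
  | succ k ih => rw [pow_succ, ih, tor_mul, pow_succ, pow_succ]

theorem tor_split (s t : Kˣ) : tor s t = tor s 1 * tor 1 t := by rw [tor_mul, mul_one, one_mul]

theorem tv_inv (s t : Kˣ) (i : Fin 5) : tv s⁻¹ t⁻¹ i = (tv s t i)⁻¹ := by
  have h := congrArg mx (tor_inv s t)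
  have h1 : mx (tor s t) * mx (tor s⁻¹ t⁻¹) = 1 := by rw [← mx_mul, ← tor_inv, mul_inv_cancel, mx_one]
  rw [mx_tor, mx_tor, Matrix.diagonal_mul_diagonal, ← Matrix.diagonal_one] at h1
  have h2 := congrFun (Matrix.diagonal_injective h1) i
  exact eq_inv_of_mul_eq_one_right h2

/-- conjugation with the torus -/
theorem mx_tor_conj (s t : Kˣ) (g : SUJ K) :
    mx (tor s t * g * (tor s t)⁻¹) = cjm (tv s t) (RingEquiv.refl K) (mx g) := by
  rw [tor_inv, mx_mul, mx_mul, mx_tor, mx_tor, cjm_eq]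
  have h1 : (fun i => (tv s t i)⁻¹) = tv s⁻¹ t⁻¹ := funext fun i => (tv_inv s t i).symm
  rw [h1]
  rfl

theorem tor_conj {s t : Kˣ} {x1 x2 : K} (h1 : x1 = s * t / star (t : K)) (h2 : x2 = (s : K)⁻¹ * t ^ 2 / star (t : K))
    {α : MulAut (UG K)} (hα : IsTor α x1 x2 (RingEquiv.refl K)) (x : UG K) :
    tor s t * emb x * (tor s t)⁻¹ = emb (α x) := by
  apply mx_injective
  rw [mx_tor_conj, mx_emb, mx_emb]
  have ht : (t : K) ≠ 0 := t.ne_zero
  have ht' : star (t : K) ≠ 0 := star_ne_zero.2 ht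
  have e1 : x1 = tv s t 0 / tv s t 2 := by
    rw [h1]
    show (s : K) * t / star (t : K) = (s : K) / (star (t : K) / t)
    field_simp
  have e2 : x2 = tv s t 1 / tv s t 2 := by
    rw [h2]
    show (s : K)⁻¹ * t ^ 2 / star (t : K) = (s : K)⁻¹ * t / (star (t : K) / t)
    field_simp
  rw [e1, e2] at hα
  exact cjm_mt (tv_TV s t) (fun _ => rfl) hα x

theorem tor_conj_one {s : Kˣ} {α : MulAut (UG K)} (hα : IsTor α (s : K) (s : K)⁻¹ (RingEquiv.refl K)) (x : UG K) :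
    tor s 1 * emb x * (tor s 1)⁻¹ = emb (α x) :=
  tor_conj (by simp) (by simp) hα x

theorem tor_conj_two {t : Kˣ} {α : MulAut (UG K)}
    (hα : IsTor α ((t : K) * (star (t : K))⁻¹) ((t : K) ^ 2 * (star (t : K))⁻¹) (RingEquiv.refl K)) (x : UG K) :
    tor 1 t * emb x * (tor 1 t)⁻¹ = emb (α x) :=
  tor_conj (by simp [div_eq_mul_inv]) (by simp [div_eq_mul_inv]) hα x

/-- the torus normalizes `emb.range` -/
theorem tor_norm (s t : Kˣ) (x : UG K) : ∃ y : UG K, tor s t * emb x * (tor s t)⁻¹ = emb y := by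
  have h := mem_range_emb (g := tor s t * emb x * (tor s t)⁻¹) ?_ ?_
  · obtain ⟨y, hy⟩ := h
    exact ⟨y, hy.symm⟩
  · intro i j hij
    rw [mx_tor_conj, mx_emb]
    show tv s t i * mt x i j * (tv s t j)⁻¹ = 0
    have : mt x i j = 0 := mt_tri x hij
    rw [this, mul_zero, zero_mul]
  · intro i
    rw [mx_tor_conj, mx_emb]
    show tv s t i * mt x i i * (tv s t i)⁻¹ = 1
    have h1 : mt x i i = 1 := by fin_cases i <;> rfl
    rw [h1, mul_one, mul_inv_cancel₀ ((tv_TV s t).ne i)]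

/-- the upper triangular elements -/
theorem exists_of_tri {g : SUJ K} (h0 : ∀ i j, j < i → mx g i j = 0) :
    ∃ (x : UG K) (s t : Kˣ), g = emb x * tor s t := by
  have hM := mx_form g
  have z10 : mx g 1 0 = 0 := h0 _ _ (by decide)
  have z20 : mx g 2 0 = 0 := h0 _ _ (by decide)
  have z21 : mx g 2 1 = 0 := h0 _ _ (by decide)
  have z30 : mx g 3 0 = 0 := h0 _ _ (by decide)
  have z31 : mx g 3 1 = 0 := h0 _ _ (by decide)
  have z32 : mx g 3 2 = 0 := h0 _ _ (by decide)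
  have z40 : mx g 4 0 = 0 := h0 _ _ (by decide)
  have z41 : mx g 4 1 = 0 := h0 _ _ (by decide)
  have z42 : mx g 4 2 = 0 := h0 _ _ (by decide)
  have z43 : mx g 4 3 = 0 := h0 _ _ (by decide)
  have r04 := hM.row_rel 0 4
  have r13 := hM.row_rel 1 3
  have j04 : J K 0 4 = 1 := rfl
  have j13 : J K 1 3 = 1 := rfl
  rw [j04, z40, z41, z42, z43, star_zero, mul_zero, mul_zero, mul_zero, mul_zero, add_zero, add_zero, add_zero,
    add_zero] at r04
  rw [j13, z10, z30, z31, z32, star_zero, mul_zero, mul_zero, mul_zero, zero_mul, zero_add, add_zero, add_zero,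
    add_zero] at r13
  have hdet : mx g 0 0 * mx g 1 1 * mx g 2 2 * mx g 3 3 * mx g 4 4 = 1 := by
    have h1 := mx_det g
    rw [Matrix.det_of_upperTriangular (fun i j h => h0 i j h), Fin.prod_univ_five] at h1
    exact h1
  have n0 : mx g 0 0 ≠ 0 := fun h => by rw [h, zero_mul] at r04; exact zero_ne_one r04
  have n1 : mx g 1 1 ≠ 0 := fun h => by rw [h, zero_mul] at r13; exact zero_ne_one r13
  have e4 : mx g 4 4 = (star (mx g 0 0))⁻¹ := by
    have h := eq_inv_of_mul_eq_one_right r04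
    have h2 := congrArg star h
    rwa [star_star, star_inv₀] at h2
  have e3 : mx g 3 3 = (star (mx g 1 1))⁻¹ := by
    have h := eq_inv_of_mul_eq_one_right r13
    have h2 := congrArg star h
    rwa [star_star, star_inv₀] at h2
  have s0 : star (mx g 0 0) ≠ 0 := star_ne_zero.2 n0
  have s1 : star (mx g 1 1) ≠ 0 := star_ne_zero.2 n1
  have e2 : mx g 2 2 = star (mx g 0 0 * mx g 1 1) / (mx g 0 0 * mx g 1 1) := by
    rw [e3, e4] at hdet
    rw [star_mul']
    field_simp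
    field_simp at hdet
    linear_combination hdet
  let s : Kˣ := Units.mk0 (mx g 0 0) n0
  let t : Kˣ := Units.mk0 (mx g 0 0 * mx g 1 1) (mul_ne_zero n0 n1)
  have hd : ∀ i, mx g i i = tv s t i := by
    intro i
    fin_cases i
    · rfl
    · show mx g 1 1 = (mx g 0 0)⁻¹ * (mx g 0 0 * mx g 1 1)
      rw [inv_mul_cancel_left₀ n0]
    · exact e2
    · show mx g 3 3 = star (mx g 0 0) / star (mx g 0 0 * mx g 1 1)
      rw [e3, star_mul']
      field_simp
    · exact e4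
  have key := mem_range_emb (g := g * (tor s t)⁻¹) ?_ ?_
  · obtain ⟨x, hx⟩ := key
    exact ⟨x, s, t, by rw [hx, inv_mul_cancel_right]⟩
  · intro i j hij
    rw [tor_inv, mx_mul, mx_tor, Matrix.mul_diagonal, h0 i j hij, zero_mul]
  · intro i
    rw [tor_inv, mx_mul, mx_tor, Matrix.mul_diagonal, tv_inv, hd i, mul_inv_cancel₀ ((tv_TV s t).ne i)]

/-! ### the Weyl elements -/

/-- the matrix of the Weyl element of `SL₂` -/
def w2m : Matrix (Fin 5) (Fin 5) K :=
  !![0, 1, 0, 0, 0; -1, 0, 0, 0, 0; 0, 0, 1, 0, 0; 0, 0, 0, 0, -1; 0, 0, 0, 1, 0]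

/-- the inverse -/
def w2i : Matrix (Fin 5) (Fin 5) K :=
  !![0, -1, 0, 0, 0; 1, 0, 0, 0, 0; 0, 0, 1, 0, 0; 0, 0, 0, 0, 1; 0, 0, 0, -1, 0]

theorem w2m_w2i : (w2m : Matrix (Fin 5) (Fin 5) K) * w2i = 1 := by
  ext i j
  fin_cases i <;> fin_cases j <;> simp [w2m, w2i, Matrix.mul_apply, Fin.sum_univ_five]

theorem w2m_form : FJ (w2m : Matrix (Fin 5) (Fin 5) K) := by
  unfold FJ
  ext i j
  fin_cases i <;> fin_cases j <;> simp [w2m, J, Matrix.mul_apply, Fin.sum_univ_five]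

theorem w2m_det : (w2m : Matrix (Fin 5) (Fin 5) K).det = 1 := by
  simp [w2m, Matrix.det_succ_row_zero, Fin.sum_univ_succ, Fin.succAbove]

/-- the Weyl element of `SL₂` -/
def w2 : SUJ K := ⟨⟨w2m, w2m_det⟩, w2m_form⟩

theorem w2_conj {γ : MulAut (Q2 K)} (hγ : IsW2 γ) (e : Q2 K) :
    w2 * emb (e : UG K) * w2⁻¹ = emb ((γ e : Q2 K) : UG K) := by
  rw [mul_inv_eq_iff_eq_mul]
  apply mx_injective
  show (w2m : Matrix (Fin 5) (Fin 5) K) * mt (e : UG K) = mt ((γ e : Q2 K) : UG K) * w2m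
  have h0 : (e : UG K).r = 0 := e.2
  have h0' : ((γ e : Q2 K) : UG K).r = 0 := (γ e).2
  have h1 := hγ.u1 e
  have h2 := hγ.u2 e
  have h3 := hγ.a e
  have h4 := hγ.b e
  have h5 := hγ.c e
  ext i j
  fin_cases i <;> fin_cases j <;>
    simp [w2m, mt, Matrix.mul_apply, Fin.sum_univ_five, UG.d, h0, h0', h1, h2, h3, h4, h5]
  all_goals ring1

/-- the matrix of the Weyl element of `SU₃` -/
def w1m (κ : K) : Matrix (Fin 5) (Fin 5) K :=
  !![1, 0, 0, 0, 0; 0, 0, 0, -κ, 0; 0, 0, 1, 0, 0; 0, κ⁻¹, 0, 0, 0; 0, 0, 0, 0, 1]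

theorem w1m_form {κ : K} (h0 : κ ≠ 0) (h : κ + star κ = 0) : FJ (w1m κ) := by
  have h1 : star κ = -κ := by linear_combination h
  unfold FJ
  ext i j
  fin_cases i <;> fin_cases j <;> simp [w1m, J, Matrix.mul_apply, Fin.sum_univ_five, h1, h0, star_inv₀]

theorem w1m_det {κ : K} (h0 : κ ≠ 0) : (w1m κ).det = 1 := by
  simp [w1m, Matrix.det_succ_row_zero, Fin.sum_univ_succ, Fin.succAbove, h0]

/-- the Weyl element of `SU₃` -/
def w1 (κ : K) (h0 : κ ≠ 0) (h : κ + star κ = 0) : SUJ K := ⟨⟨w1m κ, w1m_det h0⟩, w1m_form h0 h⟩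

theorem w1_conj {κ : K} {γ : MulAut (Q1 K)} (hγ : IsW1 κ γ) (e : Q1 K) :
    w1 κ hγ.ne hγ.tr * emb (e : UG K) * (w1 κ hγ.ne hγ.tr)⁻¹ = emb ((γ e : Q1 K) : UG K) := by
  rw [mul_inv_eq_iff_eq_mul]
  apply mx_injective
  show w1m κ * mt (e : UG K) = mt ((γ e : Q1 K) : UG K) * w1m κ
  have h0 : (e : UG K).u2 = 0 := e.2.1
  have h0' : ((γ e : Q1 K) : UG K).u2 = 0 := (γ e).2.1
  have h0c : (e : UG K).c = 0 := e.2.2
  have h0c' : ((γ e : Q1 K) : UG K).c = 0 := (γ e).2.2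
  have hne := hγ.ne
  have htr : star κ = -κ := by linear_combination hγ.tr
  have h1 := hγ.r e
  have h2 := hγ.u1 e
  have h3 := hγ.a e
  have h4 := hγ.b e
  ext i j
  fin_cases i <;> fin_cases j <;>
    simp [w1m, mt, Matrix.mul_apply, Fin.sum_univ_five, UG.d, h0, h0', h0c, h0c', h1, h2, h3, h4, hne, htr, star_inv₀]
  all_goals try ring1
  all_goals field_simp
  ring1

end Cfsg.Agent.H567.PU
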