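import Cfsg.Agent.H567.PU.SujC
import Cfsg.Agent.H767.PU.Auts
import Cfsg.Agent.H757.PU.RealDef

/-!
# S5258 [PU-REAL-a]: the normalizer, Sylow, the action of the torus; `StRealA` (helper567)
-/

set_option autoImplicit false

namespace Cfsg.Agent.H567.PU

open Matrix Cfsg.Agent.H756.PU Cfsg.Agent.H767.PU

universe u

variable {K : Type u} [Field K] [StarRing K] {p n : ℕ}

/-! ### the normalizer -/

/-- an element with given coordinates -/
theorem exists_el (h : HypK K p n) (r u1 u2 b : K) : ∃ x : UG K, x.r = r ∧ x.u1 = u1 ∧ x.u2 = u2 ∧ x.b = b := by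
  obtain ⟨a, ha⟩ := exists_a h u1
  obtain ⟨c, hc⟩ := exists_a h u2
  exact ⟨⟨r, u1, u2, a, b, c, ha, hc⟩, rfl, rfl, rfl, rfl⟩

theorem exists_kappa (h : HypK K p n) : ∃ κ : K, κ ≠ 0 ∧ κ + star κ = 0 := by
  have h1 : Nat.card (Tz K) = p ^ n := card_Tz h
  have h2 : 1 < Nat.card (Tz K) := by
    rw [h1]
    exact one_lt_q h
  have hfin : Finite (Tz K) := Nat.finite_of_card_ne_zero (by omega)
  have hnt : Nontrivial (Tz K) := Finite.one_lt_card_iff_nontrivial.1 h2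
  obtain ⟨x, hx⟩ := exists_ne (0 : Tz K)
  exact ⟨x, fun h => hx (Subtype.ext h), x.2⟩

/-- the elements which normalize `emb.range` are upper triangular -/
theorem tri_of_norm (h : HypK K p n) {g : SUJ K} (hg : ∀ x : UG K, ∃ y : UG K, emb x * g = g * emb y) :
    ∀ i j, j < i → mx g i j = 0 := by
  have key : ∀ x : UG K, ∃ y : UG K, mt x * mx g = mx g * mt y := by
    intro x
    obtain ⟨y, hy⟩ := hg x
    exact ⟨y, congrArg mx hy⟩
  generalize hMd : mx g = M at key ⊢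
  have hM : FJ M := hMd ▸ mx_form g
  -- the columns
  have c0 : ∀ x : UG K, ∀ i, mt x i 0 * M 0 0 + mt x i 1 * M 1 0 + mt x i 2 * M 2 0 + mt x i 3 * M 3 0 + mt x i 4 * M 4 0 =
      M i 0 := by
    intro x i
    obtain ⟨y, hy⟩ := key x
    have h1 := congrFun (congrFun hy i) 0
    rw [Matrix.mul_apply, Matrix.mul_apply, Fin.sum_univ_five, Fin.sum_univ_five] at h1
    rw [h1]
    show M i 0 * 1 + M i 1 * 0 + M i 2 * 0 + M i 3 * 0 + M i 4 * 0 = M i 0
    ring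
  have c1 : ∀ x : UG K, ∃ z : K, ∀ i, mt x i 0 * M 0 1 + mt x i 1 * M 1 1 + mt x i 2 * M 2 1 + mt x i 3 * M 3 1 +
      mt x i 4 * M 4 1 = M i 0 * z + M i 1 := by
    intro x
    obtain ⟨y, hy⟩ := key x
    refine ⟨y.r, fun i => ?_⟩
    have h1 := congrFun (congrFun hy i) 1
    rw [Matrix.mul_apply, Matrix.mul_apply, Fin.sum_univ_five, Fin.sum_univ_five] at h1
    rw [h1]
    show M i 0 * y.r + M i 1 * 1 + M i 2 * 0 + M i 3 * 0 + M i 4 * 0 = M i 0 * y.r + M i 1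
    ring
  obtain ⟨t0, ht0⟩ := exists_a h (1 : K)
  obtain ⟨κ, hκ0, hκ⟩ := exists_kappa h
  let xA : UG K := ⟨1, 0, 0, 0, 0, 0, by simp, by simp⟩
  let xB : UG K := ⟨0, 0, 0, 0, 1, 0, by simp, by simp⟩
  let xC : UG K := ⟨0, 0, 1, 0, 0, t0, by simp, ht0⟩
  let xD : UG K := ⟨0, 0, 0, 0, 0, κ, by simp, by simpa using hκ⟩
  -- column 0
  have m10 : M 1 0 = 0 := by
    have h1 := c0 xA 0
    have h2 : (1 : K) * M 0 0 + 1 * M 1 0 + 0 * M 2 0 + 0 * M 3 0 + (0 - 0 * star (1 : K)) * M 4 0 = M 0 0 := h1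
    linear_combination h2
  have m40 : M 4 0 = 0 := by
    have h1 := c0 xA 3
    have h2 : (0 : K) * M 0 0 + 0 * M 1 0 + 0 * M 2 0 + 1 * M 3 0 + (- star (1 : K)) * M 4 0 = M 3 0 := h1
    rw [star_one] at h2
    linear_combination -h2
  have m30 : M 3 0 = 0 := by
    have h1 := c0 xB 0
    have h2 : (1 : K) * M 0 0 + 0 * M 1 0 + 0 * M 2 0 + 1 * M 3 0 + (0 - 1 * star (0 : K)) * M 4 0 = M 0 0 := h1
    rw [m40] at h2
    linear_combination h2
  have m20 : M 2 0 = 0 := by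
    have h1 := c0 xC 1
    have h2 : (0 : K) * M 0 0 + 1 * M 1 0 + 1 * M 2 0 + t0 * M 3 0 + (xC.d - t0 * star (0 : K)) * M 4 0 = M 1 0 := h1
    rw [m40, m30] at h2
    linear_combination h2
  -- column 1
  have m41 : M 4 1 = 0 := by
    obtain ⟨z, h1⟩ := c1 xA
    have h2 : (0 : K) * M 0 1 + 0 * M 1 1 + 0 * M 2 1 + 1 * M 3 1 + (- star (1 : K)) * M 4 1 = M 3 0 * z + M 3 1 := h1 3
    rw [star_one, m30] at h2
    linear_combination -h2
  have m31 : M 3 1 = 0 := by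
    obtain ⟨z, h1⟩ := c1 xD
    have h2 : (0 : K) * M 0 1 + 1 * M 1 1 + 0 * M 2 1 + κ * M 3 1 + (xD.d - κ * star (0 : K)) * M 4 1 =
      M 1 0 * z + M 1 1 := h1 1
    rw [m41, m10] at h2
    have h3 : κ * M 3 1 = 0 := by linear_combination h2
    exact (mul_eq_zero.1 h3).resolve_left hκ0
  have m21 : M 2 1 = 0 := by
    obtain ⟨z, h1⟩ := c1 xC
    have h2 : (0 : K) * M 0 1 + 1 * M 1 1 + 1 * M 2 1 + t0 * M 3 1 + (xC.d - t0 * star (0 : K)) * M 4 1 =
      M 1 0 * z + M 1 1 := h1 1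
    rw [m41, m31, m10] at h2
    linear_combination h2
  -- the form
  have f0 : ∀ j, star (M 0 0) * M 4 j = J K 0 j := by
    intro j
    have h1 := hM.col_rel 0 j
    rw [m10, m20, m30, m40, star_zero] at h1
    linear_combination h1
  have n0 : star (M 0 0) ≠ 0 := by
    intro h0
    have h1 : star (M 0 0) * M 4 4 = 1 := f0 4
    rw [h0, zero_mul] at h1
    exact zero_ne_one h1
  have m4 : ∀ j, J K 0 j = 0 → M 4 j = 0 := by
    intro j hj
    have h1 := f0 j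
    rw [hj] at h1
    exact (mul_eq_zero.1 h1).resolve_left n0
  have m42 : M 4 2 = 0 := m4 2 rfl
  have m43 : M 4 3 = 0 := m4 3 rfl
  have f1 : ∀ j, star (M 0 1) * M 4 j + star (M 1 1) * M 3 j = J K 1 j := by
    intro j
    have h1 := hM.col_rel 1 j
    rw [m21, m31, m41, star_zero] at h1
    linear_combination h1
  have n1 : star (M 1 1) ≠ 0 := by
    intro h0
    have h1 : star (M 0 1) * M 4 3 + star (M 1 1) * M 3 3 = 1 := f1 3
    rw [h0, m43, mul_zero, zero_mul, add_zero] at h1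
    exact zero_ne_one h1
  have m32 : M 3 2 = 0 := by
    have h1 : star (M 0 1) * M 4 2 + star (M 1 1) * M 3 2 = 0 := f1 2
    rw [m42, mul_zero, zero_add] at h1
    exact (mul_eq_zero.1 h1).resolve_left n1
  intro i j hij
  fin_cases i <;> fin_cases j <;> first | exact absurd hij (by decide) | assumption

theorem norm_emb (h : HypK K p n) {g : SUJ K} (hg : ∀ x : UG K, ∃ y : UG K, emb x * g = g * emb y) :
    ∃ (x : UG K) (s t : Kˣ), g = emb x * tor s t :=
  exists_of_tri (tri_of_norm h hg)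

/-! ### Sylow -/

theorem finite_SUJ (h : HypK K p n) : Finite (SUJ K) := by
  have := h.fin
  exact Finite.of_injective (mx : SUJ K → Matrix (Fin 5) (Fin 5) K) mx_injective

theorem pow_form (x : UG K) (s t : Kˣ) (k : ℕ) : ∃ y : UG K, (emb x * tor s t) ^ k = emb y * tor s t ^ k := by
  induction k with
  | zero => exact ⟨1, by rw [pow_zero, pow_zero, map_one, mul_one]⟩
  | succ k ih =>
    obtain ⟨y, hy⟩ := ih
    obtain ⟨z, hz⟩ := tor_norm (s ^ k) (t ^ k) x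
    refine ⟨y * z, ?_⟩
    rw [pow_succ, hy, map_mul, ← hz, ← tor_pow, pow_succ (tor s t) k]
    group

theorem index_emb (h : HypK K p n) : ¬ p ∣ (emb : UG K →* SUJ K).range.index := by
  classical
  have hpp := h.pp
  have : Fact p.Prime := ⟨hpp⟩
  have hfin := finite_SUJ h
  have hK := h.fin
  have := Fintype.ofFinite K
  have hP : IsPGroup p (emb : UG K →* SUJ K).range := by
    have h1 := isPGroup_UG h
    exact h1.of_surjective (emb : UG K →* SUJ K).rangeRestrict (MonoidHom.rangeRestrict_surjective _)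
  obtain ⟨S, hS⟩ := hP.exists_le_sylow
  have heq : (emb : UG K →* SUJ K).range = S := by
    by_contra hne
    have hlt : (emb : UG K →* SUJ K).range < S := lt_of_le_of_ne hS hne
    -- the normalizer condition in `S`
    have hnil : Group.IsNilpotent (S : Subgroup (SUJ K)) := S.2.isNilpotent
    have hnc := Group.normalizerCondition_of_isNilpotent (G := (S : Subgroup (SUJ K)))
    have h1 : (emb : UG K →* SUJ K).range.subgroupOf S < ⊤ := by
      rw [lt_top_iff_ne_top, Ne, Subgroup.subgroupOf_eq_top]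
      exact fun hle => hne (le_antisymm hS hle)
    have h2 := hnc _ h1
    obtain ⟨g, hg1, hg2⟩ := SetLike.exists_of_lt h2
    have hgn : ∀ x : UG K, ∃ y : UG K, emb x * (g : SUJ K) = (g : SUJ K) * emb y := by
      intro x
      have h3 := inv_mem hg1
      rw [Subgroup.mem_normalizer_iff] at h3
      have h4 := (h3 ⟨emb x, hS ⟨x, rfl⟩⟩).1 (Subgroup.mem_subgroupOf.2 ⟨x, rfl⟩)
      rw [Subgroup.mem_subgroupOf] at h4
      obtain ⟨y, hy⟩ := h4
      refine ⟨y, ?_⟩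
      rw [hy]
      show emb x * (g : SUJ K) = (g : SUJ K) * ((g : SUJ K)⁻¹ * emb x * (g : SUJ K)⁻¹⁻¹)
      group
    obtain ⟨x, s, t, hgx⟩ := norm_emb h hgn
    apply hg2
    rw [Subgroup.mem_subgroupOf]
    -- the power
    have hN : ∀ u : Kˣ, u ^ (Fintype.card K - 1) = 1 := fun u => by
      have := Fintype.card_units (α := K)
      rw [← this]
      exact pow_card_eq_one
    have h5 : ((g : SUJ K)) ^ (Fintype.card K - 1) ∈ (emb : UG K →* SUJ K).range := by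
      obtain ⟨y, hy⟩ := pow_form x s t (Fintype.card K - 1)
      rw [hgx, hy, tor_pow, hN, hN, tor_one, mul_one]
      exact ⟨y, rfl⟩
    obtain ⟨k, hk⟩ := S.2 g
    have hk' : ((g : SUJ K)) ^ p ^ k = 1 := congrArg Subtype.val hk
    have hcop : Nat.Coprime (Fintype.card K - 1) (p ^ k) := by
      apply Nat.Coprime.pow_right
      rw [Nat.coprime_comm, Nat.Prime.coprime_iff_not_dvd hpp]
      intro hd
      have hc : Fintype.card K = (p ^ n) ^ 2 := by rw [← Nat.card_eq_fintype_card, h.card]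
      have h6 : p ∣ Fintype.card K := by
        rw [hc, ← pow_mul]
        exact dvd_pow_self p (by have := h.hn; omega)
      have h7 : 1 ≤ Fintype.card K := Fintype.card_pos
      have h8 := (Nat.dvd_sub h6 hd)
      rw [Nat.sub_sub_self h7] at h8
      exact hpp.one_lt.ne' (Nat.dvd_one.1 h8)
    have h6 : (g : SUJ K) ∈ Subgroup.zpowers ((g : SUJ K) ^ (Fintype.card K - 1)) := by
      have h7 : (orderOf (g : SUJ K)).Coprime (Fintype.card K - 1) :=
        Nat.Coprime.coprime_dvd_left (orderOf_dvd_of_pow_eq_one hk') hcop.symm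
      exact mem_zpowers_pow_iff.2 (Nat.coprime_comm.1 h7)
    exact (Subgroup.zpowers_le.2 h5) h6
  rw [heq]
  exact S.not_dvd_index

/-! ### the action of the torus with field automorphisms -/

/-- the diagonal -/
def xv (x1 x2 : K) : Fin 5 → K := ![x1, x2, 1, (star x2)⁻¹, (star x1)⁻¹]

theorem xv_TV {x1 x2 : K} (h1 : x1 ≠ 0) (h2 : x2 ≠ 0) : TV (xv x1 x2) := by
  refine ⟨?_, ?_, ?_⟩
  · show x1 * star ((star x1)⁻¹) = 1
    rw [star_inv₀, star_star, mul_inv_cancel₀ h1]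
  · show x2 * star ((star x2)⁻¹) = 1
    rw [star_inv₀, star_star, mul_inv_cancel₀ h2]
  · show (1 : K) * star 1 = 1
    rw [star_one, mul_one]

/-- the pair `(α, β)` belongs to `x1`, `x2`, `τ` -/
def IsP (ab : MulAut (UG K) × MulAut (SUJ K)) (x1 x2 : K) (τ : K ≃+* K) : Prop :=
  IsTor ab.1 x1 x2 τ ∧ ∀ g, mx (ab.2 g) = cjm (xv x1 x2) τ (mx g)

theorem xv_mul {x1 x2 y1 y2 : K} {τ : K ≃+* K} (hτ : ∀ x, τ (star x) = star (τ x)) :
    (fun i => xv x1 x2 i * τ (xv y1 y2 i)) = xv (x1 * τ y1) (x2 * τ y2) := by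
  funext i
  fin_cases i
  · rfl
  · rfl
  · show (1 : K) * τ 1 = 1
    rw [map_one, mul_one]
  · show (star x2)⁻¹ * τ (star y2)⁻¹ = (star (x2 * τ y2))⁻¹
    rw [map_inv₀, hτ, star_mul', mul_inv]
  · show (star x1)⁻¹ * τ (star y1)⁻¹ = (star (x1 * τ y1))⁻¹
    rw [map_inv₀, hτ, star_mul', mul_inv]

theorem IsP.mul {a b : MulAut (UG K) × MulAut (SUJ K)} {x1 x2 y1 y2 : K} {τ σ : K ≃+* K} (ha : IsP a x1 x2 τ)
    (hb : IsP b y1 y2 σ) : IsP (a * b) (x1 * τ y1) (x2 * τ y2) (σ.trans τ) := by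
  refine ⟨isTor_mul ha.1 hb.1, fun g => ?_⟩
  show mx (a.2 (b.2 g)) = _
  rw [ha.2, hb.2, cjm_cjm, xv_mul ha.1.tst]

theorem IsP.one : IsP (1 : MulAut (UG K) × MulAut (SUJ K)) 1 1 (RingEquiv.refl K) := by
  refine ⟨isTor_one, fun g => ?_⟩
  show mx g = _
  ext i j
  have h1 : ∀ i, xv (1 : K) 1 i = 1 := by
    intro i
    fin_cases i <;> simp [xv]
  show mx g i j = xv 1 1 i * mx g i j * (xv 1 1 j)⁻¹
  rw [h1, h1, inv_one, one_mul, mul_one]

theorem IsP.inv {a : MulAut (UG K) × MulAut (SUJ K)} {x1 x2 : K} {τ : K ≃+* K} (ha : IsP a x1 x2 τ) :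
    IsP a⁻¹ (τ.symm x1)⁻¹ (τ.symm x2)⁻¹ τ.symm := by
  refine ⟨isTor_inv ha.1, fun g => ?_⟩
  obtain ⟨k, rfl⟩ := a.2.surjective g
  show mx (a.2⁻¹ (a.2 k)) = _
  rw [MulAut.inv_apply_self, ha.2, cjm_cjm]
  have hts : ∀ x, τ.symm (star x) = star (τ.symm x) := (isTor_inv ha.1).tst
  have h1 : (fun i => xv (τ.symm x1)⁻¹ (τ.symm x2)⁻¹ i * τ.symm (xv x1 x2 i)) = fun _ => 1 := by
    rw [xv_mul hts]
    have e1 : τ.symm x1 ≠ 0 := by simpa using ha.1.ne1
    have e2 : τ.symm x2 ≠ 0 := by simpa using ha.1.ne2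
    rw [inv_mul_cancel₀ e1, inv_mul_cancel₀ e2]
    funext i
    fin_cases i <;> simp [xv]
  rw [h1]
  ext i j
  show mx k i j = 1 * (τ.symm (τ (mx k i j))) * (1)⁻¹
  rw [RingEquiv.symm_apply_apply, one_mul, inv_one, mul_one]

variable (K) in
/-- the group of the pairs -/
def TP : Subgroup (MulAut (UG K) × MulAut (SUJ K)) where
  carrier := {a | ∃ x1 x2 τ, IsP a x1 x2 τ}
  mul_mem' := by
    rintro a b ⟨_, _, _, ha⟩ ⟨_, _, _, hb⟩
    exact ⟨_, _, _, ha.mul hb⟩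
  one_mem' := ⟨_, _, _, IsP.one⟩
  inv_mem' := by
    rintro a ⟨_, _, _, ha⟩
    exact ⟨_, _, _, ha.inv⟩

/-- `α` determines `x1`, `x2`, `τ` -/
theorem isTor_unique (h : HypK K p n) {α : MulAut (UG K)} {x1 x2 y1 y2 : K} {τ σ : K ≃+* K} (hx : IsTor α x1 x2 τ)
    (hy : IsTor α y1 y2 σ) : x1 = y1 ∧ x2 = y2 ∧ τ = σ := by
  have e1 : x1 = y1 := by
    obtain ⟨g, -, h2, -⟩ := exists_el h 0 1 0 0
    have h3 := hx.u1 g
    rw [hy.u1, h2, map_one, map_one, mul_one, mul_one] at h3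
    exact h3.symm
  have e2 : x2 = y2 := by
    obtain ⟨g, -, -, h2, -⟩ := exists_el h 0 0 1 0
    have h3 := hx.u2 g
    rw [hy.u2, h2, map_one, map_one, mul_one, mul_one] at h3
    exact h3.symm
  refine ⟨e1, e2, ?_⟩
  ext z
  obtain ⟨g, -, h2, -⟩ := exists_el h 0 z 0 0
  have h3 := hx.u1 g
  rw [hy.u1, h2, ← e1] at h3
  exact (mul_left_cancel₀ hx.ne1 h3).symm

theorem symm_star {τ : K ≃+* K} (hτ : ∀ x, τ (star x) = star (τ x)) (x : K) : τ.symm (star x) = star (τ.symm x) := by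
  apply τ.injective
  rw [τ.apply_symm_apply, hτ, τ.apply_symm_apply]

/-- the automorphism of `SUJ K` -/
theorem exists_autJ {x1 x2 : K} {τ : K ≃+* K} (h1 : x1 ≠ 0) (h2 : x2 ≠ 0) (hτ : ∀ x, τ (star x) = star (τ x)) :
    ∃ β : MulAut (SUJ K), ∀ g, mx (β g) = cjm (xv x1 x2) τ (mx g) := by
  have hinv : ∀ {x1 x2 : K} {τ : K ≃+* K} (h1 : x1 ≠ 0) (h2 : x2 ≠ 0) (hτ : ∀ x, τ (star x) = star (τ x))
      (M : Matrix (Fin 5) (Fin 5) K), cjm (xv (τ.symm x1)⁻¹ (τ.symm x2)⁻¹) τ.symm (cjm (xv x1 x2) τ M) = M := by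
    intro x1 x2 τ h1 h2 hτ M
    rw [cjm_cjm]
    have hts := symm_star hτ
    have h1 : (fun i => xv (τ.symm x1)⁻¹ (τ.symm x2)⁻¹ i * τ.symm (xv x1 x2 i)) = fun _ => 1 := by
      rw [xv_mul hts]
      have e1 : τ.symm x1 ≠ 0 := by simpa using h1
      have e2 : τ.symm x2 ≠ 0 := by simpa using h2
      rw [inv_mul_cancel₀ e1, inv_mul_cancel₀ e2]
      funext i
      fin_cases i <;> simp [xv]
    rw [h1]
    ext i j
    show 1 * (τ.symm (τ (M i j))) * (1)⁻¹ = M i j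
    rw [RingEquiv.symm_apply_apply, one_mul, inv_one, mul_one]
  have e1 : τ.symm x1 ≠ 0 := by simpa using h1
  have e2 : τ.symm x2 ≠ 0 := by simpa using h2
  let f := autJ (xv x1 x2) (xv_TV h1 h2) τ hτ
  let f' := autJ (xv (τ.symm x1)⁻¹ (τ.symm x2)⁻¹) (xv_TV (inv_ne_zero e1) (inv_ne_zero e2)) τ.symm (symm_star hτ)
  have hf' : ∀ g, f' (f g) = g := fun g => mx_injective (hinv h1 h2 hτ (mx g))
  have hf : ∀ g, f (f' g) = g := by
    intro g
    apply mx_injective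
    have h3 := hinv (x1 := (τ.symm x1)⁻¹) (x2 := (τ.symm x2)⁻¹) (τ := τ.symm) (inv_ne_zero e1) (inv_ne_zero e2)
      (symm_star hτ) (mx g)
    rw [RingEquiv.symm_symm, map_inv₀, map_inv₀, RingEquiv.apply_symm_apply, RingEquiv.apply_symm_apply, inv_inv,
      inv_inv] at h3
    exact h3
  exact ⟨{ toFun := f, invFun := f', left_inv := hf', right_inv := hf, map_mul' := map_mul f }, fun g => rfl⟩

/-- **REAL-a.** -/
theorem realA : Cfsg.Agent.H757.PU.StRealA.{u} := by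
  intro K _ _ p n _ h
  have hfin := finite_SUJ h
  refine ⟨{
    G0 := SUJ K
    T := TP K
    ι := emb
    ρ := (MonoidHom.fst _ _).comp (TP K).subtype
    A := (MonoidHom.snd _ _).comp (TP K).subtype
    inj := emb_injective
    syl := index_emb h
    injT := ?_
    tor := ?_
    act := ?_
    nrm := ?_
    w1 := ?_
    w2 := ?_ }⟩
  · rintro ⟨⟨a, b⟩, x1, x2, τ, hx⟩ ⟨⟨a', b'⟩, y1, y2, σ, hy⟩ hab
    have h1 : a = a' := hab
    subst h1
    obtain ⟨e1, e2, e3⟩ := isTor_unique h hx.1 hy.1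
    subst e1; subst e2; subst e3
    apply Subtype.ext
    refine Prod.ext rfl ?_
    show b = b'
    ext g : 1
    exact mx_injective ((hx.2 g).trans (hy.2 g).symm)
  · intro α x1 x2 τ hα
    obtain ⟨β, hβ⟩ := exists_autJ hα.ne1 hα.ne2 hα.tst
    exact ⟨⟨(α, β), x1, x2, τ, hα, hβ⟩, rfl⟩
  · rintro ⟨⟨a, b⟩, x1, x2, τ, hx⟩ g
    show b (emb g) = emb (a g)
    apply mx_injective
    rw [hx.2, mx_emb, mx_emb]
    refine cjm_mt (xv_TV hx.1.ne1 hx.1.ne2) hx.1.tst ?_ g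
    show IsTor a (x1 / 1) (x2 / 1) τ
    rw [div_one, div_one]
    exact hx.1
  · intro g hg
    have hmap : (emb : UG K →* SUJ K).range.map (MulAut.conj g).toMonoidHom = (emb : UG K →* SUJ K).range := by
      refine Subgroup.eq_of_le_of_card_ge ?_ ?_
      · rintro _ ⟨_, ⟨x, rfl⟩, rfl⟩
        exact hg x
      · rw [Subgroup.card_map_of_injective (MulAut.conj g).injective]
    have hg' : ∀ x : UG K, ∃ y : UG K, emb x * g = g * emb y := by
      intro x
      have h1 : emb x ∈ (emb : UG K →* SUJ K).range.map (MulAut.conj g).toMonoidHom := by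
        rw [hmap]
        exact ⟨x, rfl⟩
      obtain ⟨_, ⟨y, rfl⟩, hy⟩ := h1
      refine ⟨y, ?_⟩
      have h2 : g * emb y * g⁻¹ = emb x := hy
      rw [← h2]
      group
    obtain ⟨u, s, t, rfl⟩ := norm_emb h hg'
    have hs : (s : K) ≠ 0 := s.ne_zero
    have ht : (t : K) ≠ 0 := t.ne_zero
    have ht' : star (t : K) ≠ 0 := star_ne_zero.2 ht
    have hα := isTor_tor (s : K) (s : K)⁻¹ hs (inv_ne_zero hs) (RingEquiv.refl K) (fun _ => rfl)
    have hβ := isTor_tor ((t : K) * (star (t : K))⁻¹) ((t : K) ^ 2 * (star (t : K))⁻¹)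
      (mul_ne_zero ht (inv_ne_zero ht')) (mul_ne_zero (pow_ne_zero 2 ht) (inv_ne_zero ht')) (RingEquiv.refl K)
      (fun _ => rfl)
    refine ⟨u, s, t, _, _, hs, ht, hα, hβ, fun x => ?_⟩
    rw [map_mul, map_mul, map_inv, ← tor_conj_one hα, ← tor_conj_two hβ, tor_split s t]
    group
  · obtain ⟨κ, h0, h1⟩ := exists_kappa h
    exact ⟨w1 κ h0 h1, κ, _, isW1_w1 κ h0 h1, fun e => w1_conj (isW1_w1 κ h0 h1) e⟩
  · exact ⟨w2, _, isW2_w2, fun e => w2_conj isW2_w2 e⟩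

end Cfsg.Agent.H567.PU
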